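import Groth.Agent.GrpSchLib.MonoSubgroup
import Groth.Prelude.Def_Red
import Mathlib.AlgebraicGeometry.Morphisms.ClosedImmersion
import Mathlib.CategoryTheory.Monoidal.Cartesian.Over

/-!
Frobenius pull-back of a closed subgroup: if `π : SK → S` and `ψ : S → SK` compose both ways to a natural
family of endomorphisms that are the identity on points, a closed subgroup of `G_{SK}` gives one of `G`.
-/

set_option autoImplicit false
set_option backward.isDefEq.respectTransparency false
set_option backward.isDefEq.respectTransparency.types false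
universe u
open CategoryTheory CategoryTheory.Limits AlgebraicGeometry MonoidalCategory CartesianMonoidalCategory
open scoped MonObj

namespace Groth.Agent.FrobPullLib

variable {S SK : Scheme.{u}} (π : SK ⟶ S) (ψ : S ⟶ SK)

theorem isMonHom_app {C : Type*} [Category C] [CartesianMonoidalCategory C] {F : C ⥤ C} [F.Monoidal]
    (α : 𝟭 C ⟶ F) (G : C) [MonObj G] :
    letI : MonObj (F.obj G) := F.monObjObj (X := G)
    IsMonHom (M := G) (N := F.obj G) (α.app G) := by
  letI : MonObj (F.obj G) := F.monObjObj (X := G)
  refine ⟨?_, ?_⟩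
  · show η[G] ≫ α.app G = Functor.LaxMonoidal.ε F ≫ F.map η[G]
    have h := α.naturality η[G]
    simp only [Functor.id_obj, Functor.id_map] at h
    rw [h]
    congr 1
    rw [← cancel_mono (Functor.Monoidal.εIso F).inv]
    exact toUnit_unique _ _
  · show μ[G] ≫ α.app G = (α.app G ⊗ₘ α.app G) ≫ Functor.LaxMonoidal.μ F G G ≫ F.map μ[G]
    have h := α.naturality μ[G]
    simp only [Functor.id_obj, Functor.id_map] at h
    rw [h]
    have h2 := NatTrans.IsMonoidal.tensor (τ := α) G G
    simp only [Functor.id_obj] at h2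
    rw [show Functor.LaxMonoidal.μ (𝟭 C) G G = 𝟙 _ from rfl] at h2
    erw [Category.id_comp] at h2
    rw [h2, Category.assoc]

variable (Fr : ∀ Y : Over S, Y.left ⟶ Y.left)

theorem exists_subgroup (hFr : ∀ Y : Over S, Fr Y ≫ Y.hom = Y.hom ≫ ψ ≫ π)
    (hnat : ∀ {Y Y' : Over S} (f : Y ⟶ Y'), Fr Y ≫ f.left = f.left ≫ Fr Y')
    (hK : Fr (Over.mk π) = π ≫ ψ) (hid : ∀ (Y : Over S) (y : Y.left), Fr Y y = y)
    (G : Over S) [GrpObj G] (H' : Over SK) [GrpObj H'] (h' : H' ⟶ Red.bc π G) [IsMonHom h']
    [IsClosedImmersion h'.left] :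
    ∃ (H : Over S) (_ : GrpObj H) (h : H ⟶ G), IsMonHom h ∧ IsClosedImmersion h.left ∧
      ∃ g : H' ⟶ Red.bc π H, g ≫ (Over.pullback π).map h = h' ∧ Surjective g.left := by
  let P : Over S ⥤ Over S := Over.pullback π ⋙ Over.pullback ψ
  let α : 𝟭 (Over S) ⟶ P :=
    { app := fun Y => Over.homMk
        (pullback.lift (pullback.lift (f := Y.hom) (g := π) (Fr Y) (Y.hom ≫ ψ) (by rw [Category.assoc]; exact hFr Y))
          Y.hom (pullback.lift_snd _ _ _)) (pullback.lift_snd _ _ _)
      naturality := fun Y Y' f => by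
        apply Over.OverMorphism.ext
        simp only [Functor.id_obj, Functor.id_map, Over.comp_left, P, Functor.comp_map, Over.homMk_left,
          Over.pullback_map_left]
        refine pullback.hom_ext (pullback.hom_ext ?_ ?_) ?_
        · simp only [Category.assoc, pullback.lift_fst, pullback.lift_fst_assoc]
          exact (hnat f).symm
        · simp only [Category.assoc, pullback.lift_fst, pullback.lift_fst_assoc, pullback.lift_snd]
          exact Over.w_assoc f ψ
        · simp only [Category.assoc, pullback.lift_snd]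
          exact Over.w f }
  let H'' : Over S := Red.bc ψ H'
  letI : GrpObj H'' := Functor.grpObjObj (F := Over.pullback ψ) (G := H')
  letI : GrpObj (P.obj G) := Functor.grpObjObj (F := Over.pullback ψ) (G := Red.bc π G)
  let Q : H'' ⟶ P.obj G := (Over.pullback ψ).map h'
  haveI : IsMonHom Q := inferInstanceAs (IsMonHom ((Over.pullback ψ).map h'))
  let e : G ⟶ P.obj G := α.app G
  haveI : IsMonHom e := by
    have he := isMonHom_app α G
    refine ⟨he.one_hom.trans ?_, he.mul_hom.trans ?_⟩
    · exact (show Functor.LaxMonoidal.ε P ≫ P.map η[G] = Functor.LaxMonoidal.ε (Over.pullback ψ) ≫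
        (Over.pullback ψ).map (Functor.LaxMonoidal.ε (Over.pullback π) ≫ (Over.pullback π).map η[G]) by
          simp [P, Category.assoc])
    · exact congrArg _ (show Functor.LaxMonoidal.μ P G G ≫ P.map μ[G] =
        Functor.LaxMonoidal.μ (Over.pullback ψ) _ _ ≫
        (Over.pullback ψ).map (Functor.LaxMonoidal.μ (Over.pullback π) G G ≫ (Over.pullback π).map μ[G]) by
          simp [P, Category.assoc])
  have hQ : IsPullback Q.left (pullback.fst H'.hom ψ) (pullback.fst (Red.bc π G).hom ψ) h'.left := by
    refine IsPullback.of_right ?_ (pullback.lift_fst _ _ _) (IsPullback.of_hasPullback (Red.bc π G).hom ψ).flip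
    have h1 : Q.left ≫ pullback.snd (Red.bc π G).hom ψ = pullback.snd H'.hom ψ := pullback.lift_snd _ _ _
    rw [h1, Over.w h']
    exact (IsPullback.of_hasPullback _ ψ).flip
  haveI : IsClosedImmersion Q.left := MorphismProperty.of_isPullback hQ.flip ‹_›
  haveI : Mono Q := Over.mono_of_mono_left _
  let j : pullback e Q ⟶ G := pullback.fst e Q
  have hj : IsPullback j.left (pullback.snd e Q).left e.left Q.left :=
    (IsPullback.of_hasPullback e Q).map (Over.forget S)
  haveI : IsClosedImmersion j.left := MorphismProperty.of_isPullback hj.flip ‹_›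
  have cond : j ≫ e = pullback.snd e Q ≫ Q := pullback.condition
  have h1 : η[G] ≫ e = η[H''] ≫ Q := (IsMonHom.one_hom e).trans (IsMonHom.one_hom Q).symm
  have h2 : ((fst (pullback e Q) (pullback e Q) ≫ j) * (snd _ _ ≫ j)) ≫ e =
      ((fst _ _ ≫ pullback.snd e Q) * (snd _ _ ≫ pullback.snd e Q)) ≫ Q := by
    rw [MonObj.mul_comp, MonObj.mul_comp, Category.assoc, Category.assoc, Category.assoc, Category.assoc, cond]
  have h3 : j⁻¹ ≫ e = (pullback.snd e Q)⁻¹ ≫ Q := by
    rw [GrpObj.inv_comp, GrpObj.inv_comp, cond]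
  obtain ⟨str, hh⟩ := GrpSchLib.exists_grpObj_of_mono j
    (pullback.lift η[G] η[H''] h1) (pullback.lift_fst _ _ _)
    (pullback.lift _ _ h2) (pullback.lift_fst _ _ _)
    (pullback.lift _ _ h3) (pullback.lift_fst _ _ _)
  letI := str
  let a : (Over.map π).obj H' ⟶ G := Over.homMk (h'.left ≫ pullback.fst G.hom π) (by
    show (h'.left ≫ pullback.fst G.hom π) ≫ G.hom = H'.hom ≫ π
    rw [Category.assoc, pullback.condition, ← Over.w h', Category.assoc]
    rfl)
  let cK : (Over.map π).obj H' ⟶ Over.mk π := Over.homMk H'.hom rfl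
  have hFH : Fr ((Over.map π).obj H') ≫ H'.hom = (H'.hom ≫ π) ≫ ψ :=
    (hnat cK).trans (by rw [hK]; exact (Category.assoc _ _ _).symm)
  let b : (Over.map π).obj H' ⟶ H'' := Over.homMk (pullback.lift (Fr _) (H'.hom ≫ π) hFH) (pullback.lift_snd _ _ _)
  have hab : a ≫ e = b ≫ Q := by
    apply Over.OverMorphism.ext
    simp only [a, b, e, α, Q, Over.comp_left, Over.homMk_left, Over.pullback_map_left, Functor.id_obj]
    refine pullback.hom_ext (pullback.hom_ext ?_ ?_) ?_
    · simp only [Category.assoc, pullback.lift_fst, pullback.lift_fst_assoc]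
      rw [← Category.assoc]
      exact (hnat a).symm
    · simp only [Category.assoc, pullback.lift_fst, pullback.lift_fst_assoc, pullback.lift_snd]
      have h1 : h'.left ≫ pullback.snd G.hom π = H'.hom := Over.w h'
      have h2 : Fr ((Over.map π).obj H') ≫ h'.left ≫ pullback.snd G.hom π = (H'.hom ≫ π) ≫ ψ := by rw [h1]; exact hFH
      refine Eq.trans ?_ h2.symm
      rw [pullback.condition_assoc, ← h1, Category.assoc, Category.assoc]
    · simp only [Category.assoc, pullback.lift_snd]
      exact Over.w a
  let g : H' ⟶ Red.bc π (pullback e Q) := (Over.mapPullbackAdj π).homEquiv H' _ (pullback.lift a b hab)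
  have hg : g ≫ (Over.pullback π).map j = h' := by
    rw [← Adjunction.homEquiv_naturality_right, pullback.lift_fst]
    apply Over.OverMorphism.ext
    refine pullback.hom_ext ?_ ?_
    · simp [Adjunction.homEquiv_unit, a]
      exact Category.id_comp _
    · exact (Over.w ((Over.mapPullbackAdj π).homEquiv H' G a)).trans (Over.w h').symm
  refine ⟨pullback e Q, str, j, hh, inferInstance, g, hg, ⟨fun x => ?_⟩⟩
  let jK := ((Over.pullback π).map j).left
  have hjK : IsPullback jK (pullback.fst _ π) (pullback.fst G.hom π) j.left := by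
    refine IsPullback.of_right ?_ (pullback.lift_fst _ _ _) (IsPullback.of_hasPullback G.hom π).flip
    have h1 : jK ≫ pullback.snd G.hom π = pullback.snd _ π := pullback.lift_snd _ _ _
    rw [h1, Over.w j]
    exact (IsPullback.of_hasPullback _ π).flip
  haveI : IsClosedImmersion jK := MorphismProperty.of_isPullback hjK.flip ‹_›
  let z := pullback.fst (pullback e Q).hom π x
  have hy : pullback.fst G.hom π (jK x) = j.left z := by
    show pullback.fst G.hom π (jK x) = j.left (pullback.fst _ π x)
    exact (Scheme.Hom.comp_apply _ _ _).symm.trans ((congrArg (fun m : _ ⟶ G.left => m x) hjK.w).trans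
      (Scheme.Hom.comp_apply _ _ _))
  let Y : Over S := (Over.map π).obj (Red.bc π G)
  let c1 : Y ⟶ G := Over.homMk (pullback.fst G.hom π) pullback.condition
  let c2 : Y ⟶ Over.mk π := Over.homMk (pullback.snd G.hom π) rfl
  have hF : pullback.fst G.hom π ≫ pullback.lift (f := G.hom) (g := π) (Fr G) (G.hom ≫ ψ)
      (by rw [Category.assoc]; exact hFr G) = Fr Y := by
    refine pullback.hom_ext ?_ ?_
    · rw [Category.assoc, pullback.lift_fst]
      exact (hnat c1).symm
    · rw [Category.assoc, pullback.lift_snd, pullback.condition_assoc]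
      exact ((hnat c2).trans (by rw [hK]; rfl)).symm
  have h3 : e.left (j.left z) = Q.left ((pullback.snd e Q).left z) := by
    exact (Scheme.Hom.comp_apply _ _ _).symm.trans ((congrArg (fun m : _ ⟶ (P.obj G).left => m z) hj.w).trans
      (Scheme.Hom.comp_apply _ _ _))
  let x' := pullback.fst H'.hom ψ ((pullback.snd e Q).left z)
  have h4 : h'.left x' = jK x := by
    have h5 : pullback.fst (Red.bc π G).hom ψ (e.left (j.left z)) = h'.left x' := by
      rw [h3]
      exact (Scheme.Hom.comp_apply _ _ _).symm.trans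
        ((congrArg (fun m : H''.left ⟶ (Red.bc π G).left => m ((pullback.snd e Q).left z)) hQ.w).trans
          (Scheme.Hom.comp_apply _ _ _))
    rw [← h5]
    refine (Scheme.Hom.comp_apply e.left (pullback.fst (Red.bc π G).hom ψ) (j.left z)).symm.trans ?_
    have h6 : e.left ≫ pullback.fst (Red.bc π G).hom ψ =
        pullback.lift (f := G.hom) (g := π) (Fr G) (G.hom ≫ ψ) (by rw [Category.assoc]; exact hFr G) :=
      pullback.lift_fst _ _ _
    refine (congrArg (fun m : G.left ⟶ (Red.bc π G).left => m (j.left z)) h6).trans ?_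
    rw [← hy]
    exact ((Scheme.Hom.comp_apply _ _ _).symm.trans (congrArg (fun m : Y.left ⟶ Y.left => m (jK x)) hF)).trans (hid Y _)
  refine ⟨x', jK.isClosedEmbedding.injective ?_⟩
  show jK (g.left x') = jK x
  rw [← h4, ← Scheme.Hom.comp_apply]
  exact congrArg (fun m : H' ⟶ Red.bc π G => m.left x') hg

end Groth.Agent.FrobPullLib
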