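import Groth.Agent.FrobSchLib.FlatRel

/-! Iterates of the absolute Frobenius. -/

set_option autoImplicit false
universe u
open CategoryTheory AlgebraicGeometry

namespace Groth.Agent.FrobPullLib

variable (X : Scheme.{u}) (p : ℕ) [Fact p.Prime] [FrobSch.IsCharP X p]

/-- The `n`-th iterate of the absolute Frobenius. -/
noncomputable def frobN : ℕ → (X ⟶ X)
  | 0 => 𝟙 X
  | n + 1 => frobN n ≫ FrobSch.frob X p

variable {X}

theorem frobN_apply (n : ℕ) (x : X) : frobN X p n x = x := by
  induction n with
  | zero => rfl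
  | succ n ih => rw [frobN, Scheme.Hom.comp_apply, ih]; rfl

theorem frobN_comp {Y : Scheme.{u}} [FrobSch.IsCharP Y p] (n : ℕ) (f : X ⟶ Y) :
    frobN X p n ≫ f = f ≫ frobN Y p n := by
  induction n with
  | zero => simp [frobN]
  | succ n ih => rw [frobN, frobN, Category.assoc, FrobSch.frob_comp, ← Category.assoc, ih, Category.assoc]

theorem frobN_Spec (A : Type u) [CommRing A] [CharP A p] (n : ℕ) :
    frobN (Spec (CommRingCat.of A)) p n = Spec.map (CommRingCat.ofHom (iterateFrobenius A p n)) := by
  induction n with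
  | zero => rw [frobN, ← Spec.map_id, iterateFrobenius_zero]; rfl
  | succ n ih =>
    rw [frobN, ih, FrobSchLib.frob_Spec, ← Spec.map_comp, ← CommRingCat.ofHom_comp]
    congr 2
    ext a
    simp [iterateFrobenius_def, frobenius_def, ← pow_mul, pow_succ, mul_comm]

end Groth.Agent.FrobPullLib
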